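import Mathlib

/-!
# Modules in the defining characteristic of a finite group with a split BN-pair of rank two: interface (helper415)

`RDat S` : the data (rank one root groups `X i`, `Y i` of any type: `SL₂`, `Sz`, ...; `n i`; the torus `H`; the unipotent
groups `Up`, `Um`).
* `RDat.Top ρ i` : the operator `∑ u ∈ X i, ρ (u * n i)`;
* `RDat.IsEig ρ χ μ v` : `v` is fixed by `Up`, an eigenvector of `H` and of the operators `Top`;
* `RDat.Braid ρ` : the braid relation of length 8 for the operators `Top`;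
* the statements `Eig`, `Sq`, `NN`, `Neg` (tasks).
-/

set_option autoImplicit false

namespace Cfsg.Agent.H415.TU

open Finset

/-- a finite group with a split BN-pair of rank two, in the form needed for its modules in the defining characteristic -/
structure RDat (S : Type*) [Group S] where
  /-- positive rank one root groups -/
  X : Fin 2 → Subgroup S
  /-- negative rank one root groups -/
  Y : Fin 2 → Subgroup S
  n : Fin 2 → S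
  H : Subgroup S
  Up : Subgroup S
  Um : Subgroup S
  /-- complements of `X i` in `Up`, `Y i` in `Um` -/
  Vp : Fin 2 → Subgroup S
  Vm : Fin 2 → Subgroup S
  /-- `u * n i = yy i u * hh i u * xx i u` for `1 ≠ u ∈ X i` -/
  yy : Fin 2 → S → S
  hh : Fin 2 → S → S
  xx : Fin 2 → S → S
  H_comm : ∀ a ∈ H, ∀ b ∈ H, a * b = b * a
  H_Up : ∀ h ∈ H, ∀ u ∈ Up, h * u * h⁻¹ ∈ Up
  H_Um : ∀ h ∈ H, ∀ u ∈ Um, h * u * h⁻¹ ∈ Um
  H_X : ∀ i, ∀ h ∈ H, ∀ u ∈ X i, h * u * h⁻¹ ∈ X i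
  n_H : ∀ i, ∀ h ∈ H, n i * h * (n i)⁻¹ ∈ H
  n_sq : ∀ i, n i * n i ∈ H
  X_le : ∀ i, X i ≤ Up
  Y_le : ∀ i, Y i ≤ Um
  Vp_le : ∀ i, Vp i ≤ Up
  fac_p : ∀ i, ∀ u ∈ Up, ∃ x ∈ X i, ∃ v ∈ Vp i, u = x * v
  X_Vp : ∀ i, ∀ x ∈ X i, ∀ v ∈ Vp i, x⁻¹ * v * x ∈ Vp i
  n_Vp : ∀ i, ∀ v ∈ Vp i, (n i)⁻¹ * v * n i ∈ Vp i
  fac_m : ∀ i, ∀ u ∈ Um, ∃ v ∈ Vm i, ∃ y ∈ Y i, u = v * y
  n_Vm : ∀ i, ∀ v ∈ Vm i, n i * v * (n i)⁻¹ ∈ Um
  n_Y : ∀ i, ∀ y ∈ Y i, n i * y * (n i)⁻¹ ∈ X i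
  yy_mem : ∀ i, ∀ u ∈ X i, u ≠ 1 → yy i u ∈ Y i
  hh_mem : ∀ i, ∀ u ∈ X i, u ≠ 1 → hh i u ∈ H
  xx_mem : ∀ i, ∀ u ∈ X i, u ≠ 1 → xx i u ∈ X i
  rel : ∀ i, ∀ u ∈ X i, u ≠ 1 → u * n i = yy i u * hh i u * xx i u
  gen : Subgroup.closure ((Um : Set S) ∪ (H : Set S) ∪ Set.range n) = ⊤

namespace RDat

variable {S : Type*} [Group S] [Finite S] (R : RDat S)

/-- the elements of `X i` -/
noncomputable def Xs (i : Fin 2) : Finset S := (Set.toFinite (R.X i : Set S)).toFinset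

/-- the elements `≠ 1` of `X i` -/
noncomputable def Xs1 (i : Fin 2) : Finset S := (Set.toFinite ((R.X i : Set S) \ {1})).toFinset

theorem mem_Xs {i : Fin 2} {u : S} : u ∈ R.Xs i ↔ u ∈ R.X i := by simp [Xs]

theorem mem_Xs1 {i : Fin 2} {u : S} : u ∈ R.Xs1 i ↔ u ∈ R.X i ∧ u ≠ 1 := by simp [Xs1]

variable {k W : Type*} [Field k] [AddCommGroup W] [Module k W]

/-- the operators `∑ u ∈ X i, u n_i` -/
noncomputable def Top (ρ : S →* Module.End k W) (i : Fin 2) : Module.End k W := ∑ u ∈ R.Xs i, ρ (u * R.n i)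

/-- `f g f g ...`, `n` factors -/
def alt (f g : Module.End k W) : ℕ → Module.End k W
  | 0 => 1
  | n + 1 => f * alt g f n

/-- the braid relation -/
def Braid (ρ : S →* Module.End k W) : Prop := alt (R.Top ρ 0) (R.Top ρ 1) 8 = alt (R.Top ρ 1) (R.Top ρ 0) 8

/-- `v` is fixed by `Up`, an eigenvector of `H` and of the operators `Top` -/
structure IsEig (ρ : S →* Module.End k W) (χ : S → k) (μ : Fin 2 → k) (v : W) : Prop where
  fix : ∀ u ∈ R.Up, ρ u v = v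
  tor : ∀ h ∈ R.H, ρ h v = χ h • v
  eig : ∀ i, R.Top ρ i v = μ i • v

variable (k W)

/-- (T1) existence of eigenvectors -/
def Eig (p : ℕ) : Prop := ∀ (ρ : S →* Module.End k W), FiniteDimensional k W → Nontrivial W → (∀ i, R.X i ≠ ⊥) →
  IsPGroup p R.Up → R.Braid ρ → ∃ (v : W) (χ : S → k) (μ : Fin 2 → k), v ≠ 0 ∧ R.IsEig ρ χ μ v

/-- (T2) the possible eigenvalues: `μ i ≠ 0` implies `μ i = ∑ χ (h (u))` and `χ` is invariant under `n i` -/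
def Mu (p : ℕ) : Prop := ∀ (ρ : S →* Module.End k W) (χ : S → k) (μ : Fin 2 → k) (v : W), v ≠ 0 →
  (∀ i, R.X i ≠ ⊥) → IsPGroup p R.Up → R.IsEig ρ χ μ v → ∀ i, μ i ≠ 0 →
    (μ i = ∑ u ∈ R.Xs1 i, χ (R.hh i u)) ∧ ∀ h ∈ R.H, χ (R.n i * h * (R.n i)⁻¹) = χ h

/-- (T3) the rank one formula -/
def NN : Prop := ∀ (ρ : S →* Module.End k W) (χ : S → k) (μ : Fin 2 → k) (v : W), R.IsEig ρ χ μ v →
  ∀ i, ρ (R.n i) v = μ i • v - ∑ u ∈ R.Xs1 i, χ (R.hh i u) • ρ (R.yy i u) v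

/-- (T4) the module generated by `w` is spanned by the translates under `Um` -/
def Neg : Prop := ∀ (ρ : S →* Module.End k W) (w : W), (∀ i, ∀ u ∈ R.X i, ρ u w = w) →
  (∀ h ∈ R.H, ∃ c : k, ρ h w = c • w) →
  (∀ i, ρ (R.n i) w ∈ Submodule.span k {x | ∃ y ∈ R.Y i, x = ρ y w}) →
  ∀ g, ρ g w ∈ Submodule.span k {x | ∃ u ∈ R.Um, x = ρ u w}

end RDat

end Cfsg.Agent.H415.TU
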