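import Cfsg.Agent.H415.TU.Def
import Cfsg.Agent.KFacts.TwF4.Full

/-!
# The interface `RDat` for `²F₄(q)` (helper415)

`Good hφ R` : `R : RDat ↥(twistedF4 K (2 ^ m))` is the standard one; `X 0 = X_1`, `X 1 = X_8`, `Y 0 = X_9`,
`Y 1 = X_16`, `n 0 = n₁`, `n 1 = n₂` of `KFacts/TwF4/Full`.
-/

set_option autoImplicit false

namespace Cfsg.Agent.H415.TU

open Cfsg.Lie Cfsg.Agent.ChevalleyStructure.Elts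
open Cfsg.Agent.ChevalleyStructure.TwF4.TwistedFix (Rln)
open Cfsg.Agent.KFacts.TwF4.Inst (ro re)

universe u

theorem inF4 : InList chevF4 := by simp

variable {K : Type u} [Field K] [Fintype K] [CharP K 2] {φ : K →+* K} {m : ℕ}

/-- the torus of the rank one group `⟨X_1, X_9⟩` -/
noncomputable def h0 (φ : K →+* K) (s : K) : GL chevF4.Idx K := hG inF4 33 s * hG inF4 24 (φ s)

/-- the torus of the rank one group `⟨X_8, X_16⟩` -/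
noncomputable def h1 (φ : K →+* K) (s : K) : GL chevF4.Idx K := hG inF4 27 s * hG inF4 25 (φ s)

/-- the standard `RDat` of `²F₄(q)` -/
structure Good (hφ : Rln φ (2 ^ m)) (R : RDat ↥(twistedF4 K (2 ^ m))) : Prop where
  X0 : ∀ g, g ∈ R.X 0 ↔ ∃ t, ro hφ 0 t = g
  X1 : ∀ g, g ∈ R.X 1 ↔ ∃ p u, re hφ 4 p u = g
  Y0 : ∀ g, g ∈ R.Y 0 ↔ ∃ t, ro hφ 4 t = g
  Y1 : ∀ g, g ∈ R.Y 1 ↔ ∃ p u, re hφ 0 p u = g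
  n0 : (R.n 0 : GL chevF4.Idx K) = Cfsg.Agent.ChevalleyStructure.TwF4.Rel.n1 K
  n1 : (R.n 1 : GL chevF4.Idx K) = Cfsg.Agent.ChevalleyStructure.TwF4.Rel.n2 K
  Up : R.Up = Subgroup.closure ({g | ∃ a : ZMod 8, a ∈ [0, 1, 2, 3] ∧ ∃ t, g = ro hφ a t} ∪
    {g | ∃ a : ZMod 8, a ∈ [1, 2, 3, 4] ∧ ∃ p u, g = re hφ a p u})
  Um : R.Um = Subgroup.closure ({g | ∃ a : ZMod 8, a ∈ [4, 5, 6, 7] ∧ ∃ t, g = ro hφ a t} ∪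
    {g | ∃ a : ZMod 8, a ∈ [5, 6, 7, 0] ∧ ∃ p u, g = re hφ a p u})
  hh0 : ∀ u ∈ R.X 0, u ≠ 1 → ∃ s : K, s ≠ 0 ∧ (R.hh 0 u : GL chevF4.Idx K) = h0 φ s
  hh1 : ∀ u ∈ R.X 1, u ≠ 1 → ∃ s : K, s ≠ 0 ∧ (R.hh 1 u : GL chevF4.Idx K) = h1 φ s
  mem0 : ∀ s : K, s ≠ 0 → ∃ h ∈ R.H, (h : GL chevF4.Idx K) = h0 φ s
  mem1 : ∀ s : K, s ≠ 0 → ∃ h ∈ R.H, (h : GL chevF4.Idx K) = h1 φ s
  H : ∀ h ∈ R.H, ∃ s t : K, s ≠ 0 ∧ t ≠ 0 ∧ (h : GL chevF4.Idx K) = h0 φ s * h1 φ t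
  inv0 : ∀ (h : ↥(twistedF4 K (2 ^ m))) (s : K), s ≠ 0 → (h : GL chevF4.Idx K) = h0 φ s → R.n 0 * h * (R.n 0)⁻¹ = h⁻¹
  inv1 : ∀ (h : ↥(twistedF4 K (2 ^ m))) (s : K), s ≠ 0 → (h : GL chevF4.Idx K) = h1 φ s → R.n 1 * h * (R.n 1)⁻¹ = h⁻¹
  cardX0 : Nat.card (R.X 0) = Nat.card K
  cardX1 : Nat.card (R.X 1) = Nat.card K ^ 2
  pUp : IsPGroup 2 R.Up
  pUm : IsPGroup 2 R.Um

end Cfsg.Agent.H415.TU
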